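import Mathlib
import Cfsg.Agent.H115.Bru
import Cfsg.Agent.Nodes.NormalForm
import Cfsg.Agent.Nodes.HasRGD
set_option linter.all false

-- part: H115/PCount
section
/-!
# The number of elements of `p`-power order in a group with a split (B,N)-pair of characteristic `p` (helper115)

`SplitBru p cs B P C U V` : Bruhat cells, `U` a `p`-subgroup of `B`, `V J` the unipotent radical of `P J`.

* `SplitBru.card_pel` : the number of elements of `P J` of `p`-power order is `|U| |U : V J|` (Steinberg);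
  in particular `|U| ^ 2` for the whole group.
-/

set_option autoImplicit false

namespace Cfsg.Agent.H115

open CoxeterSystem Cfsg.Agent.Tits.Core Cfsg.Agent.Tits.Exchange

/-- Möbius inversion on the subsets of a finite set. -/
theorem mobius {I : Type*} [DecidableEq I] (f g : Finset I → ℚ)
    (h : ∀ J, ∑ K ∈ J.powerset, (-1 : ℚ) ^ K.card * f K = g J) (J : Finset I) :
    ∑ K ∈ J.powerset, (-1 : ℚ) ^ K.card * g K = f J := by
  have h1 : ∀ K ∈ J.powerset, (-1 : ℚ) ^ K.card * g K =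
      ∑ L ∈ J.powerset, if L ⊆ K then (-1 : ℚ) ^ K.card * ((-1 : ℚ) ^ L.card * f L) else 0 := by
    intro K hK
    rw [Finset.mem_powerset] at hK
    rw [← h K, Finset.mul_sum, ← Finset.sum_filter]
    refine Finset.sum_congr ?_ fun _ _ => rfl
    ext L
    rw [Finset.mem_filter, Finset.mem_powerset, Finset.mem_powerset]
    exact ⟨fun h => ⟨h.trans hK, h⟩, fun h => h.2⟩
  rw [Finset.sum_congr rfl h1, Finset.sum_comm]
  have h2 : ∀ L ∈ J.powerset, (∑ K ∈ J.powerset,
      if L ⊆ K then (-1 : ℚ) ^ K.card * ((-1 : ℚ) ^ L.card * f L) else 0) = if L = J then f J else 0 := by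
    intro L hL
    rw [Finset.mem_powerset] at hL
    rw [← Finset.sum_filter, ← Finset.sum_mul]
    have h3 : ∑ K ∈ J.powerset.filter (fun K => L ⊆ K), (-1 : ℚ) ^ K.card =
        ∑ K ∈ (J \ L).powerset, (-1 : ℚ) ^ (K ∪ L).card := by
      symm
      refine Finset.sum_bij (fun K _ => K ∪ L) ?_ ?_ ?_ fun _ _ => rfl
      · intro K hK
        rw [Finset.mem_powerset] at hK
        rw [Finset.mem_filter, Finset.mem_powerset]
        exact ⟨Finset.union_subset (hK.trans Finset.sdiff_subset) hL, Finset.subset_union_right⟩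
      · intro K hK K' hK' e
        rw [Finset.mem_powerset] at hK hK'
        have hd : Disjoint K L := Finset.disjoint_of_subset_left hK Finset.sdiff_disjoint
        have hd' : Disjoint K' L := Finset.disjoint_of_subset_left hK' Finset.sdiff_disjoint
        rw [← Finset.union_sdiff_cancel_right hd, e, Finset.union_sdiff_cancel_right hd']
      · intro K hK
        rw [Finset.mem_filter, Finset.mem_powerset] at hK
        exact ⟨K \ L, Finset.mem_powerset.2 (Finset.sdiff_subset_sdiff hK.1 le_rfl),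
          Finset.sdiff_union_of_subset hK.2⟩
    rw [h3]
    have h4 : ∑ K ∈ (J \ L).powerset, (-1 : ℚ) ^ (K ∪ L).card =
        (∑ K ∈ (J \ L).powerset, (-1 : ℚ) ^ K.card) * (-1 : ℚ) ^ L.card := by
      rw [Finset.sum_mul]
      refine Finset.sum_congr rfl fun K hK => ?_
      rw [Finset.mem_powerset] at hK
      have hd : Disjoint K L := Finset.disjoint_of_subset_left hK Finset.sdiff_disjoint
      rw [Finset.card_union_of_disjoint hd, pow_add]
    have h5 : ∑ K ∈ (J \ L).powerset, (-1 : ℚ) ^ K.card = if J \ L = ∅ then 1 else 0 := by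
      have := Finset.sum_powerset_neg_one_pow_card (x := J \ L)
      have h6 := congrArg (Int.cast : ℤ → ℚ) this
      push_cast at h6
      rw [h6]
    rw [h4, h5]
    have h7 : (-1 : ℚ) ^ L.card * (-1 : ℚ) ^ L.card = 1 := by
      rw [← mul_pow]; norm_num
    by_cases hLJ : L = J
    · subst hLJ
      rw [if_pos rfl, if_pos (Finset.sdiff_self L), one_mul, ← mul_assoc, h7, one_mul]
    · rw [if_neg hLJ, if_neg, zero_mul, zero_mul]
      intro h8
      exact hLJ (hL.antisymm (Finset.sdiff_eq_empty_iff_subset.1 h8))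
  rw [Finset.sum_congr rfl h2, Finset.sum_ite_eq', if_pos (Finset.mem_powerset.2 le_rfl)]

variable {I W G : Type*} [Group W] [Group G] {M : CoxeterMatrix I}

/-- Bruhat cells, with a `p`-subgroup `U` of `B` and the unipotent radicals `V J`. -/
structure SplitBru (p : ℕ) (cs : CoxeterSystem M W) (B : Subgroup G) (P : Set I → Subgroup G) (C : W → G → Prop)
    (U : Subgroup G) (V : Set I → Subgroup G) : Prop extends Bru cs B P C where
  U_le : U ≤ B
  V_le : ∀ J, V J ≤ U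
  V_norm : ∀ J, ∀ g ∈ P J, ∀ v ∈ V J, g * v * g⁻¹ ∈ V J
  opp : ∀ (J : Set I) (w : W), IsLongest cs J w → ∃ n, C w n ∧ (∀ u ∈ U, n⁻¹ * u * n ∈ B → u ∈ V J) ∧
    (∀ v ∈ V J, n⁻¹ * v * n ∈ B) ∧ ∀ g, C w g → ∃ u ∈ U, ∃ b ∈ B, g = u * n * b
  pU : IsPGroup p U
  syl : ∀ J, ∀ g ∈ P J, (∃ k : ℕ, orderOf g = p ^ k) → ∃ x ∈ P J, x * g * x⁻¹ ∈ U

variable {p : ℕ} {cs : CoxeterSystem M W} {B : Subgroup G} {P : Set I → Subgroup G} {C : W → G → Prop}
  {U : Subgroup G} {V : Set I → Subgroup G}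

namespace SplitBru

variable (H : SplitBru p cs B P C U V)

include H

/-- the fixed opposite cosets of an element of `U` -/
theorem card_opp {J : Set I} {w : W} (hw : IsLongest cs J w) {u : G} (hu : u ∈ U) [Decidable (u ∈ V J)] :
    Nat.card {c : G ⧸ B // H.toBru.dq c = w ∧ u • c = c} = if u ∈ V J then (V J).relIndex U else 0 := by
  obtain ⟨n, hn, h1, h2, h3⟩ := H.opp J w hw
  have hcell : ∀ c : G ⧸ B, H.toBru.dq c = w → ∃ v ∈ U, c = ((v * n : G) : G ⧸ B) := by
    intro c hc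
    induction c using QuotientGroup.induction_on with
    | H g =>
      rw [H.toBru.dq_mk, H.toBru.dl_eq] at hc
      obtain ⟨v, hv, b, hb, rfl⟩ := h3 g hc
      refine ⟨v, hv, ?_⟩
      rw [QuotientGroup.eq]
      have : (v * n * b)⁻¹ * (v * n) = b⁻¹ := by group
      rw [this]
      exact inv_mem hb
  have hfix : ∀ v ∈ U, u • ((v * n : G) : G ⧸ B) = ((v * n : G) : G ⧸ B) ↔ u ∈ V J := by
    intro v hv
    have e : u • ((v * n : G) : G ⧸ B) = ((u * (v * n) : G) : G ⧸ B) := rfl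
    rw [e, eq_comm, QuotientGroup.eq]
    have e2 : (v * n)⁻¹ * (u * (v * n)) = n⁻¹ * (v⁻¹ * u * v) * n := by group
    rw [e2]
    have hvP : v ∈ P J := H.toBru.B_le J (H.U_le hv)
    constructor
    · intro h4
      have h5 := h1 _ (mul_mem (mul_mem (inv_mem hv) hu) hv) h4
      have h6 := H.V_norm J v hvP _ h5
      have e3 : v * (v⁻¹ * u * v) * v⁻¹ = u := by group
      rwa [e3] at h6
    · intro h4
      have h5 := H.V_norm J v⁻¹ (inv_mem hvP) _ h4
      rw [inv_inv] at h5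
      exact h2 _ h5
  split_ifs with huV
  · -- the map from `U ⧸ V`
    have h4 : (V J).relIndex U = Nat.card (U ⧸ (V J).subgroupOf U) := rfl
    rw [h4]
    symm
    refine Nat.card_congr (Equiv.ofBijective (fun x => Quotient.liftOn' x
      (fun v : U => (⟨((v.1 * n : G) : G ⧸ B), ?_, ?_⟩ : {c : G ⧸ B // H.toBru.dq c = w ∧ u • c = c})) ?_) ⟨?_, ?_⟩)
    · rw [H.toBru.dq_mk, H.toBru.dl_eq]
      exact H.mul_left hn (H.U_le v.2)
    · exact (hfix v.1 v.2).2 huV
    · intro a b hab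
      rw [QuotientGroup.leftRel_apply, Subgroup.mem_subgroupOf] at hab
      apply Subtype.ext
      change ((a.1 * n : G) : G ⧸ B) = ((b.1 * n : G) : G ⧸ B)
      rw [QuotientGroup.eq]
      have e : (a.1 * n)⁻¹ * (b.1 * n) = n⁻¹ * ((a⁻¹ * b : U) : G) * n := by
        push_cast; group
      rw [e]
      exact h2 _ hab
    · intro x y
      induction x using QuotientGroup.induction_on with
      | H a =>
      induction y using QuotientGroup.induction_on with
      | H b =>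
        intro hab
        have h5 := congrArg Subtype.val hab
        change ((a.1 * n : G) : G ⧸ B) = ((b.1 * n : G) : G ⧸ B) at h5
        rw [QuotientGroup.eq] at h5 ⊢
        rw [Subgroup.mem_subgroupOf]
        have e : (a.1 * n)⁻¹ * (b.1 * n) = n⁻¹ * ((a⁻¹ * b : U) : G) * n := by
          push_cast; group
        rw [e] at h5
        exact h1 _ (a⁻¹ * b : U).2 h5
    · rintro ⟨c, hc, hc'⟩
      obtain ⟨v, hv, rfl⟩ := hcell c hc
      exact ⟨((⟨v, hv⟩ : U) : U ⧸ (V J).subgroupOf U), rfl⟩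
  · rw [Nat.card_eq_zero]
    left
    constructor
    rintro ⟨c, hc, hc'⟩
    obtain ⟨v, hv, rfl⟩ := hcell c hc
    exact huV ((hfix v hv).1 hc')

/-- the fixed cosets of an element of `p`-power order -/
theorem sum_fixed_pel [Finite G] [DecidableEq I] (J : Finset I) (hw : ∃ w, IsLongest cs (J : Set I) w) {g : G}
    (hg : g ∈ P (J : Set I)) (hgp : ∃ k : ℕ, orderOf g = p ^ k) [Decidable (g ∈ V (J : Set I))] :
    ∑ K ∈ J.powerset, (-1 : ℤ) ^ K.card *
        (Nat.card {q : G ⧸ P (K : Set I) // (∃ x ∈ P (J : Set I), (x : G ⧸ P (K : Set I)) = q) ∧ g • q = q} : ℤ) =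
      if g ∈ V (J : Set I) then ((V (J : Set I)).relIndex U : ℤ) else 0 := by
  classical
  obtain ⟨w, hw⟩ := hw
  obtain ⟨x, hx, hu⟩ := H.syl _ g hg hgp
  have h1 := H.toBru.sum_fixed J hw (H.U_le hu)
  rw [H.card_opp hw hu] at h1
  have h2 : x * g * x⁻¹ ∈ V (J : Set I) ↔ g ∈ V (J : Set I) := by
    constructor
    · intro h3
      have h4 := H.V_norm _ x⁻¹ (inv_mem hx) _ h3
      have e : x⁻¹ * (x * g * x⁻¹) * x⁻¹⁻¹ = g := by group
      rwa [e] at h4
    · exact H.V_norm _ x hx g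
  have h5 : ((if g ∈ V (J : Set I) then ((V (J : Set I)).relIndex U : ℤ) else 0)) =
      (((if x * g * x⁻¹ ∈ V (J : Set I) then (V (J : Set I)).relIndex U else 0 : ℕ)) : ℤ) := by
    by_cases h6 : g ∈ V (J : Set I)
    · rw [if_pos h6, if_pos (h2.2 h6)]
    · rw [if_neg h6, if_neg (fun h7 => h6 (h2.1 h7))]; rfl
  rw [h5, ← h1]
  refine Finset.sum_congr rfl fun K hK => ?_
  congr 2
  refine Nat.card_congr ⟨fun q => ⟨x • q.1, ?_, ?_⟩, fun q => ⟨x⁻¹ • q.1, ?_, ?_⟩, ?_, ?_⟩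
  · obtain ⟨y, hy, e⟩ := q.2.1
    exact ⟨x * y, mul_mem hx hy, by rw [← e]; rfl⟩
  · have := q.2.2
    rw [← mul_smul]
    have e : x * g * x⁻¹ * x = x * g := by group
    rw [e, mul_smul, this]
  · obtain ⟨y, hy, e⟩ := q.2.1
    exact ⟨x⁻¹ * y, mul_mem (inv_mem hx) hy, by rw [← e]; rfl⟩
  · have := q.2.2
    rw [← mul_smul]
    have e : g * x⁻¹ = x⁻¹ * (x * g * x⁻¹) := by group
    rw [e, mul_smul, this]
  · intro q
    exact Subtype.ext (inv_smul_smul x q.1)
  · intro q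
    exact Subtype.ext (smul_inv_smul x q.1)

omit H in
/-- the number of cosets of `Q` in `R` -/
theorem card_cosets {Q R : Subgroup G} : Nat.card {q : G ⧸ Q // ∃ x ∈ R, (x : G ⧸ Q) = q} = Q.relIndex R := by
  have h4 : Q.relIndex R = Nat.card (R ⧸ Q.subgroupOf R) := rfl
  rw [h4]
  symm
  refine Nat.card_congr (Equiv.ofBijective (fun x => Quotient.liftOn' x
    (fun v : R => (⟨((v.1 : G) : G ⧸ Q), v.1, v.2, rfl⟩ : {q : G ⧸ Q // ∃ x ∈ R, (x : G ⧸ Q) = q})) ?_) ⟨?_, ?_⟩)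
  · intro a b hab
    rw [QuotientGroup.leftRel_apply, Subgroup.mem_subgroupOf] at hab
    exact Subtype.ext (QuotientGroup.eq.2 hab)
  · intro x y
    induction x using QuotientGroup.induction_on with
    | H a =>
    induction y using QuotientGroup.induction_on with
    | H b =>
      intro hab
      have h5 := congrArg Subtype.val hab
      change ((a.1 : G) : G ⧸ Q) = ((b.1 : G) : G ⧸ Q) at h5
      rw [QuotientGroup.eq] at h5 ⊢
      rw [Subgroup.mem_subgroupOf]
      exact h5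
  · rintro ⟨c, x, hx, rfl⟩
    exact ⟨((⟨x, hx⟩ : R) : R ⧸ Q.subgroupOf R), rfl⟩

omit H in
/-- double counting: the elements of `R` with a class-closed property and the cosets of `Q ≤ R` fixed by them -/
theorem sum_card_fixed [Finite G] {Q R : Subgroup G} (hQR : Q ≤ R) (pr : G → Prop)
    (hpr : ∀ x g, pr g → pr (x * g * x⁻¹)) [Fintype {g : G // g ∈ R ∧ pr g}] :
    ∑ g : {g : G // g ∈ R ∧ pr g}, Nat.card {q : G ⧸ Q // (∃ x ∈ R, (x : G ⧸ Q) = q) ∧ g.1 • q = q} =
      Q.relIndex R * Nat.card {g : G // g ∈ Q ∧ pr g} := by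
  classical
  rw [← Nat.card_sigma, ← card_cosets (Q := Q) (R := R), ← Nat.card_prod]
  -- choose representatives
  have hrep : ∀ q : {q : G ⧸ Q // ∃ x ∈ R, (x : G ⧸ Q) = q}, ∃ x ∈ R, (x : G ⧸ Q) = q.1 := fun q => q.2
  choose r hrR hr using hrep
  have key : ∀ (g : G) (q : {q : G ⧸ Q // ∃ x ∈ R, (x : G ⧸ Q) = q}), g • q.1 = q.1 ↔ (r q)⁻¹ * g * r q ∈ Q := by
    intro g q
    rw [← hr q]
    have e : g • ((r q : G) : G ⧸ Q) = ((g * r q : G) : G ⧸ Q) := rfl
    rw [e, eq_comm, QuotientGroup.eq, mul_assoc]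
  refine Nat.card_congr ⟨fun a => (⟨a.2.1, a.2.2.1⟩, ⟨(r ⟨a.2.1, a.2.2.1⟩)⁻¹ * a.1.1 * r ⟨a.2.1, a.2.2.1⟩,
      (key _ ⟨a.2.1, a.2.2.1⟩).1 a.2.2.2, ?_⟩), fun a => ⟨⟨r a.1 * a.2.1 * (r a.1)⁻¹, ?_, ?_⟩, ⟨a.1.1, a.1.2, ?_⟩⟩,
      ?_, ?_⟩
  · have := hpr (r ⟨a.2.1, a.2.2.1⟩)⁻¹ _ a.1.2.2
    rwa [inv_inv] at this
  · exact mul_mem (mul_mem (hrR _) (hQR a.2.2.1)) (inv_mem (hrR _))
  · exact hpr _ _ a.2.2.2
  · refine (key _ a.1).2 ?_
    have e : (r a.1)⁻¹ * (r a.1 * a.2.1 * (r a.1)⁻¹) * r a.1 = a.2.1 := by group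
    change (r a.1)⁻¹ * (r a.1 * a.2.1 * (r a.1)⁻¹) * r a.1 ∈ Q
    rw [e]
    exact a.2.2.1
  · rintro ⟨⟨g, hg⟩, ⟨q, hq1, hq2⟩⟩
    have e : r ⟨q, hq1⟩ * ((r ⟨q, hq1⟩)⁻¹ * g * r ⟨q, hq1⟩) * (r ⟨q, hq1⟩)⁻¹ = g := by group
    simp only [Sigma.mk.injEq]
    refine ⟨Subtype.ext e, ?_⟩
    congr 1
    · funext q'
      simp only [e]
    · exact proof_irrel_heq _ _
  · rintro ⟨q, ⟨g, hg⟩⟩
    have e : (r q)⁻¹ * (r q * g * (r q)⁻¹) * r q = g := by group
    exact Prod.ext rfl (Subtype.ext e)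

omit H in
theorem card_mul_relIndex {Q R : Subgroup G} (h : Q ≤ R) : Nat.card Q * Q.relIndex R = Nat.card R := by
  have := Subgroup.relIndex_mul_relIndex ⊥ Q R bot_le h
  rwa [Subgroup.relIndex_bot_left, Subgroup.relIndex_bot_left] at this

theorem P_mono {K J : Set I} (h : K ⊆ J) : P K ≤ P J := by
  intro x hx
  obtain ⟨w, hw, hx⟩ := H.mem_P.1 hx
  exact H.mem_P.2 ⟨w, Subgroup.closure_mono (Set.image_mono h) hw, hx⟩

/-- the alternating sum of the indices of the parabolic subgroups -/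
theorem sum_index [Finite G] [DecidableEq I] (J : Finset I) (hw : ∃ w, IsLongest cs (J : Set I) w) :
    ∑ K ∈ J.powerset, (-1 : ℤ) ^ K.card * ((P (K : Set I)).relIndex (P (J : Set I)) : ℤ) =
      ((V (J : Set I)).relIndex U : ℤ) := by
  classical
  have h1 := H.sum_fixed_pel J hw (one_mem (P (J : Set I))) ⟨0, by simp⟩
  rw [if_pos (one_mem _)] at h1
  rw [← h1]
  refine Finset.sum_congr rfl fun K _ => ?_
  congr 2
  rw [← card_cosets]
  exact Nat.card_congr (Equiv.subtypeEquivRight fun q => by rw [one_smul]; simp)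

/-- the alternating sum over the parabolic subgroups in `P J` of the numbers of elements of `p`-power order -/
theorem sum_pel [Finite G] [Fact p.Prime] [DecidableEq I] (J : Finset I) (hw : ∃ w, IsLongest cs (J : Set I) w) :
    ∑ K ∈ J.powerset, (-1 : ℤ) ^ K.card * (((P (K : Set I)).relIndex (P (J : Set I)) *
      Nat.card {g : G // g ∈ P (K : Set I) ∧ ∃ k : ℕ, orderOf g = p ^ k} : ℕ) : ℤ) = (Nat.card U : ℤ) := by
  classical
  have : Fintype {g : G // g ∈ P (J : Set I) ∧ ∃ k : ℕ, orderOf g = p ^ k} := Fintype.ofFinite _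
  have h1 : ∀ K ∈ J.powerset, (-1 : ℤ) ^ K.card * (((P (K : Set I)).relIndex (P (J : Set I)) *
      Nat.card {g : G // g ∈ P (K : Set I) ∧ ∃ k : ℕ, orderOf g = p ^ k} : ℕ) : ℤ) =
      ∑ g : {g : G // g ∈ P (J : Set I) ∧ ∃ k : ℕ, orderOf g = p ^ k}, (-1 : ℤ) ^ K.card *
        (Nat.card {q : G ⧸ P (K : Set I) //
          (∃ x ∈ P (J : Set I), (x : G ⧸ P (K : Set I)) = q) ∧ g.1 • q = q} : ℤ) := by
    intro K hK
    rw [Finset.mem_powerset] at hK
    have h2 : (K : Set I) ⊆ (J : Set I) := by exact_mod_cast hK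
    rw [← sum_card_fixed (H.P_mono h2) (fun g => ∃ k : ℕ, orderOf g = p ^ k), Nat.cast_sum, Finset.mul_sum]
    rintro x g ⟨k, hk⟩
    refine ⟨k, ?_⟩
    rw [← hk]
    exact orderOf_injective (MulAut.conj x).toMonoidHom (MulAut.conj x).injective g
  rw [Finset.sum_congr rfl h1, Finset.sum_comm]
  have h3 : ∀ g : {g : G // g ∈ P (J : Set I) ∧ ∃ k : ℕ, orderOf g = p ^ k},
      (∑ K ∈ J.powerset, (-1 : ℤ) ^ K.card * (Nat.card {q : G ⧸ P (K : Set I) //
          (∃ x ∈ P (J : Set I), (x : G ⧸ P (K : Set I)) = q) ∧ g.1 • q = q} : ℤ)) =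
        if g.1 ∈ V (J : Set I) then ((V (J : Set I)).relIndex U : ℤ) else 0 :=
    fun g => H.sum_fixed_pel J hw g.2.1 g.2.2
  rw [Finset.sum_congr rfl fun g _ => h3 g, ← Finset.sum_filter, Finset.sum_const, nsmul_eq_mul]
  have h4 : (Finset.univ.filter fun g : {g : G // g ∈ P (J : Set I) ∧ ∃ k : ℕ, orderOf g = p ^ k} =>
      g.1 ∈ V (J : Set I)).card = Nat.card (V (J : Set I)) := by
    rw [← Fintype.card_subtype, ← Nat.card_eq_fintype_card]
    refine Nat.card_congr ⟨fun g => ⟨g.1.1, g.2⟩, fun g => ⟨⟨g.1, ?_, ?_⟩, g.2⟩, fun _ => rfl, fun _ => rfl⟩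
    · exact H.toBru.B_le _ (H.U_le (H.V_le _ g.2))
    · obtain ⟨k, hk⟩ := (IsPGroup.iff_orderOf.1 H.pU) ⟨g.1, H.V_le _ g.2⟩
      exact ⟨k, by rw [← hk, ← Subgroup.orderOf_coe]⟩
  rw [h4, ← card_mul_relIndex (H.V_le (J : Set I))]
  push_cast
  rfl

/-- **Steinberg's count.** The number of elements of `p`-power order in the parabolic subgroup `P J` is
`|U| |U : V J|`. -/
theorem card_pel [Finite G] [Fact p.Prime] [DecidableEq I] (hL : ∀ J : Finset I, ∃ w, IsLongest cs (J : Set I) w)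
    (J : Finset I) :
    Nat.card {g : G // g ∈ P (J : Set I) ∧ ∃ k : ℕ, orderOf g = p ^ k} =
      Nat.card U * (V (J : Set I)).relIndex U := by
  have hpos : ∀ K : Finset I, (Nat.card (P (K : Set I)) : ℚ) ≠ 0 := fun K => by
    exact_mod_cast (Nat.card_pos (α := P (K : Set I))).ne'
  have hidx : ∀ J K : Finset I, K ⊆ J →
      ((P (K : Set I)).relIndex (P (J : Set I)) : ℚ) = Nat.card (P (J : Set I)) / Nat.card (P (K : Set I)) := by
    intro J K hKJ
    have h2 : (K : Set I) ⊆ (J : Set I) := by exact_mod_cast hKJ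
    rw [eq_div_iff (hpos K), ← card_mul_relIndex (H.P_mono h2)]
    push_cast
    ring
  have h1 : ∀ J : Finset I, ∑ K ∈ J.powerset, (-1 : ℚ) ^ K.card *
      ((Nat.card {g : G // g ∈ P (K : Set I) ∧ ∃ k : ℕ, orderOf g = p ^ k} : ℚ) / Nat.card (P (K : Set I))) =
      Nat.card U / Nat.card (P (J : Set I)) := by
    intro J
    have h2 := congrArg (Int.cast : ℤ → ℚ) (H.sum_pel J (hL J))
    push_cast at h2
    rw [eq_div_iff (hpos J), ← h2, Finset.sum_mul]
    refine Finset.sum_congr rfl fun K hK => ?_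
    rw [hidx J K (Finset.mem_powerset.1 hK)]
    ring
  have h3 := mobius _ _ h1 J
  have h4 := congrArg (Int.cast : ℤ → ℚ) (H.sum_index J (hL J))
  push_cast at h4
  have h5 : ∑ K ∈ J.powerset, (-1 : ℚ) ^ K.card * ((Nat.card U : ℚ) / Nat.card (P (K : Set I))) =
      Nat.card U * (V (J : Set I)).relIndex U / Nat.card (P (J : Set I)) := by
    rw [← h4, eq_div_iff (hpos J), Finset.sum_mul, Finset.mul_sum]
    refine Finset.sum_congr rfl fun K hK => ?_
    rw [hidx J K (Finset.mem_powerset.1 hK)]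
    ring
  rw [h5, div_left_inj' (hpos J)] at h3
  exact_mod_cast h3.symm

end SplitBru

end Cfsg.Agent.H115
end

-- part: H115/OfRGD
section
/-!
# Root group data: Bruhat cells, fixed points on the parabolic cosets, number of `p`-elements (helper115)

* `splitBru_of_rgd` : a finite group generated by a root group datum `RGD cs h p T n X` and `T` is a `SplitBru`;
* `card_pel_of_rgd`, `card_pel_of_hasRGD` : the number of elements of `p`-power order is `|U| ^ 2`.
-/

set_option autoImplicit false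
set_option linter.unusedSectionVars false

namespace Cfsg.Agent.H115

open CoxeterSystem Cfsg.Agent.ChevalleyStructure.CoxeterGeom Cfsg.Agent.Tits.Roots Cfsg.Agent.Tits.Core
  Cfsg.Agent.Tits.Exchange Cfsg.Agent.Nodes.Reps Cfsg.Agent.Nodes.BNOf Cfsg.Agent.Nodes.StabComb
  Cfsg.Agent.Nodes.Bruhat Cfsg.Agent.Nodes.OppDec Cfsg.Agent.Nodes.LeviDec Cfsg.Agent.Nodes.NormalForm

variable {I W Y : Type*} [Fintype I] [DecidableEq I] [Group W] [Group Y] {M : CoxeterMatrix I}
  {cs : CoxeterSystem M W} {A : I → I → ℤ} {h : IsCartan M A} {p : ℕ} {T : Subgroup Y} {n : I → Y}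
  {X : (I → ℤ) → Subgroup Y}

/-- the Bruhat cells of a root group datum -/
theorem bru_of_rgd [Finite W] (R : RGD cs h p T n X) (hgen : GG cs h T X = ⊤) :
    Bru cs (RGD.B cs h T X) (fun J => PJ cs h T X J) (fun w g => Cell R.nsys cs h X w g) where
  mul_left := fun hg hb => hg.mul_left hb
  mul_right := fun hg hb => hg.mul_right hb
  one := ⟨fun hg => hg.mem_of_one, fun hg => cell_one_of_mem hg⟩
  mul := fun hl ha hb => Cell.mul_of_length R hl ha hb
  unique := fun hv hw => Cell.unique R hv hw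
  single := by
    rintro w g g' ⟨b₁, hb₁, k, hk, b₂, hb₂, rfl⟩ ⟨b₁', hb₁', k', hk', b₂', hb₂', rfl⟩
    refine ⟨b₁' * b₁⁻¹, mul_mem hb₁' (inv_mem hb₁), b₂⁻¹ * (k⁻¹ * k') * b₂',
      mul_mem (mul_mem (inv_mem hb₂) (RGD.T_le_B (hk.unique hk'))) hb₂', ?_⟩
    group
  ex := fun w => by
    obtain ⟨k, hk⟩ := exists_rp cs R.nsys w
    exact ⟨k, cell_of_rp hk⟩
  cover := fun g => (mem_GG R).1 (hgen ▸ Subgroup.mem_top g)
  mem_P := mem_PJ_iff_cell R

/-- **A root group datum gives a split (B,N)-pair with unipotent radicals.** -/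
theorem splitBru_of_rgd [Finite W] [Finite Y] [hp : Fact p.Prime] (R : RGD cs h p T n X) (hgen : GG cs h T X = ⊤) :
    SplitBru p cs (RGD.B cs h T X) (fun J => PJ cs h T X J) (fun w g => Cell R.nsys cs h X w g)
      (RGD.Sup X (RGD.Pos cs h)) (fun J => VJ cs h X J) where
  toBru := bru_of_rgd R hgen
  U_le := RGD.U_le_B
  V_le := VJ_le_U
  V_norm := by
    intro J g hg v hv
    have h1 := mem_normalizer_iff_cj.1 (PJ_le_normalizer_VJ R J hg)
    have h2 : g * v * g⁻¹ ∈ cj g (VJ cs h X J) := conj_mem_cj.2 hv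
    rwa [h1] at h2
  opp := by
    intro J w hw
    obtain ⟨k, hk⟩ := exists_rp cs R.nsys w
    refine ⟨k, cell_of_rp hk, ?_, ?_, ?_⟩
    · intro u hu hB
      have h1 := mem_PW_of_conj R hk hu hB
      rw [hw.inv_eq] at h1
      refine RGD.Sup_mono ?_ h1
      intro x hx
      rcases mem_PosJ_or_NotJ J hx.1 hx.2.1 with h2 | h2
      · exfalso
        have h3 := rep_longest_nonpos hw h2
        have h4 : IsRoot cs h (rep cs h w x) := hx.1.act w
        exact h4.ne_zero (le_antisymm h3 hx.2.2)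
      · exact h2
    · intro v hv
      refine VJ_le_B J (conj_mem_Sup' R hk (fun x hx => hx.1) (fun x hx => ?_) hv)
      exact NotJ.act (inv_mem hw.1) hx
    · rintro g ⟨b₁, hb₁, k', hk', b₂, hb₂, rfl⟩
      obtain ⟨t, ht, u, hu, rfl⟩ := R.mem_B.1 hb₁
      -- `t u = (t u t⁻¹) t`, `t k' = k' (k'⁻¹ t k')`
      have h1 : t * u * t⁻¹ ∈ RGD.Sup X (RGD.Pos cs h) := by
        have h1 := mem_normalizer_iff_cj.1 (R.T_le_normalizer_U ht)
        have h2 : t * u * t⁻¹ ∈ cj t (RGD.Sup X (RGD.Pos cs h)) := conj_mem_cj.2 hu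
        rwa [h1] at h2
      have h2 : k'⁻¹ * t * k' ∈ T := by
        have h1 := mem_normalizer_iff_cj.1 hk'.inv.mem_normalizer
        have h2 : k'⁻¹ * t * k'⁻¹⁻¹ ∈ cj k'⁻¹ T := conj_mem_cj.2 ht
        rwa [h1, inv_inv] at h2
      refine ⟨t * u * t⁻¹, h1, (k⁻¹ * k') * (k'⁻¹ * t * k') * b₂,
        mul_mem (mul_mem (RGD.T_le_B (hk.unique hk')) (RGD.T_le_B h2)) hb₂, ?_⟩
      group
  pU := R.isPGroup_Upos
  syl := by
    rintro J g hg ⟨m, hm⟩
    have hUP : RGD.Sup X (RGD.Pos cs h) ≤ PJ cs h T X J := le_trans RGD.U_le_B B_le_PJ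
    -- Sylow subgroups of `P J`
    have h1 : IsPGroup p ↥((RGD.Sup X (RGD.Pos cs h)).subgroupOf (PJ cs h T X J)) :=
      R.isPGroup_Upos.of_equiv (Subgroup.subgroupOfEquivOfLe hUP).symm
    obtain ⟨S, hS⟩ := h1.exists_le_sylow
    have h2 : IsPGroup p ↥(Subgroup.zpowers (⟨g, hg⟩ : PJ cs h T X J)) := by
      rw [IsPGroup.iff_card]
      refine ⟨m, ?_⟩
      rw [Nat.card_zpowers, Subgroup.orderOf_mk, hm]
    obtain ⟨S', hS'⟩ := h2.exists_le_sylow
    obtain ⟨x, hx⟩ := MulAction.exists_smul_eq (PJ cs h T X J) S' S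
    have h3 : (S : Subgroup (PJ cs h T X J)).map (PJ cs h T X J).subtype = RGD.Sup X (RGD.Pos cs h) := by
      refine eq_U_of_isPGroup R (S.isPGroup'.map _) ?_ (by rw [hgen]; exact le_top)
      intro u hu
      exact ⟨⟨u, hUP hu⟩, hS hu, rfl⟩
    refine ⟨x.1, x.2, ?_⟩
    rw [← h3, ← hx]
    refine ⟨x * ⟨g, hg⟩ * x⁻¹, ?_, rfl⟩
    have h4 : (⟨g, hg⟩ : PJ cs h T X J) ∈ S' := hS' (Subgroup.mem_zpowers _)
    rw [SetLike.mem_coe, Sylow.coe_subgroup_smul]
    exact ⟨⟨g, hg⟩, h4, rfl⟩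

theorem exists_longest [Finite W] (J : Finset I) : ∃ w, IsLongest cs (J : Set I) w := exists_isLongest cs _

/-- **Steinberg's count** for a root group datum: the parabolic subgroups. -/
theorem card_pel_of_rgd [Finite W] [Finite Y] [hp : Fact p.Prime] (R : RGD cs h p T n X) (hgen : GG cs h T X = ⊤)
    (J : Finset I) :
    Nat.card {g : Y // g ∈ PJ cs h T X (J : Set I) ∧ ∃ k : ℕ, orderOf g = p ^ k} =
      Nat.card ↥(RGD.Sup X (RGD.Pos cs h)) * (VJ cs h X (J : Set I)).relIndex (RGD.Sup X (RGD.Pos cs h)) :=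
  (splitBru_of_rgd R hgen).card_pel exists_longest J

/-- **Steinberg's count** for a root group datum: the number of elements of `p`-power order is `|U| ^ 2`. -/
theorem card_pel_of_rgd_top [Finite W] [Finite Y] [hp : Fact p.Prime] (R : RGD cs h p T n X)
    (hgen : GG cs h T X = ⊤) :
    Nat.card {g : Y // ∃ k : ℕ, orderOf g = p ^ k} = Nat.card ↥(RGD.Sup X (RGD.Pos cs h)) ^ 2 := by
  have h1 := card_pel_of_rgd R hgen Finset.univ
  have h2 : VJ cs h X ((Finset.univ : Finset I) : Set I) = ⊥ := by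
    rw [eq_bot_iff]
    refine RGD.Sup_le ?_
    rintro x ⟨-, -, k, hk, -⟩
    exact absurd (by simp) hk
  rw [h2, Subgroup.relIndex_bot_left, ← pow_two] at h1
  rw [← h1]
  refine Nat.card_congr (Equiv.subtypeEquivRight fun g => ?_)
  refine ⟨fun hg => ⟨?_, hg⟩, fun hg => hg.2⟩
  have h3 : PJ cs h T X ((Finset.univ : Finset I) : Set I) = ⊤ := by
    rw [eq_top_iff, ← hgen, ← LJ_univ, Finset.coe_univ]
    exact LJ_le_PJ
  rw [h3]
  exact Subgroup.mem_top g

open Cfsg.Agent.Nodes.RGDChev in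
/-- **Steinberg's count**: in a finite group generated by a root group datum of characteristic `p` the number of
elements of `p`-power order is the square of the order of a Sylow `p`-subgroup. -/
theorem card_pel_of_hasRGD {G : Type*} [Group G] [Finite G] [hp : Fact p.Prime] (hG : HasRGD p G) (S : Sylow p G) :
    Nat.card {g : G // ∃ k : ℕ, orderOf g = p ^ k} = Nat.card S ^ 2 := by
  obtain ⟨l, M, A, h, T, n, X, hW, R, hX⟩ := hG
  have hgen : GG M.toCoxeterSystem h T X = ⊤ := by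
    rw [eq_top_iff, ← hX]
    exact RGD.Sup_le fun x hx => X_le_GG hx
  rw [card_pel_of_rgd_top R hgen]
  congr 1
  obtain ⟨S', hS'⟩ := (R.isPGroup_Upos).exists_le_sylow
  have h1 := eq_U_of_isPGroup R S'.isPGroup' hS' (by rw [hgen]; exact le_top)
  rw [← h1]
  exact Nat.card_congr (Sylow.equiv S' S).toEquiv

end Cfsg.Agent.H115
end
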